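import Mathlib
import Cfsg.Prelude.Def_Balance
import Cfsg.Prelude.Def_EvenType
import Cfsg.Agent.S1306
import Cfsg.Agent.S1754
import Cfsg.Agent.CTwoTab.Base
import Cfsg.Agent.CpQuot.Congr
set_option linter.all false

/-!
# Aschbacher's component theorem (S1308): the conclusion and sufficient conditions (helper61)

* `Concl G` : the conclusion of S1308;
* `RankOne G` : some involution `z` has a component `K` of `C(z)` such that `K` or `C(z) ∩ C(K)` has 2-rank at most 1;
  `concl_of_rankOne : RankOne G → Concl G`; `RankOne.of_equiv`;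
* `GoodCent H` : the condition of S1308 on `C(z) ∩ C(K)`; `goodCent_of_card` : orders dividing 4 are fine;
* `concl_of_std` : from a standard subgroup `K` and an involution `z ∈ C(K)` with `GoodCent (C(z) ∩ C(K))`.
-/

set_option autoImplicit false

namespace Cfsg.Agent.AschComp

open Subgroup Cfsg
open Cfsg.Agent.CTwoTab (subMap isComponentOf_map map_centralizer_singleton)

universe u v

/-- The condition of S1308 on the group `C(z) ∩ C(K)`. -/
def GoodCent (H : Type*) [Group H] : Prop :=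
  PRankLE 2 1 H ∨ (Group.IsSolvable H ∧ ∀ S : Sylow 2 H, IsElementaryAbelian 2 (S : Subgroup H) ∨
    ∃ n : ℕ, Nonempty (↥(S : Subgroup H) ≃* DihedralGroup n))

/-- The conclusion of S1308. -/
def Concl (G : Type*) [Group G] : Prop :=
  (∃ z : G, orderOf z = 2 ∧ ∃ K : Subgroup G, K ≤ Subgroup.centralizer ({z} : Set G) ∧
      Cfsg.IsComponent (K.subgroupOf (Subgroup.centralizer ({z} : Set G))) ∧ Cfsg.PRankLE 2 1 ↥K) ∨
  (∃ z : G, orderOf z = 2 ∧ ∃ K : Subgroup G, K ≤ Subgroup.centralizer ({z} : Set G) ∧ Cfsg.IsComponent (K.subgroupOf (Subgroup.centralizer ({z} : Set G))) ∧ Cfsg.IsStandardSubgroup K ∧ (Cfsg.PRankLE 2 1 ↥(Subgroup.centralizer ({z} : Set G) ⊓ Subgroup.centralizer (K : Set G)) ∨ (Group.IsSolvable ↥(Subgroup.centralizer ({z} : Set G) ⊓ Subgroup.centralizer (K : Set G)) ∧ ∀ S : Sylow 2 ↥(Subgroup.centralizer ({z} : Set G) ⊓ Subgroup.centralizer (K : Set G)), Cfsg.IsElementaryAbelian 2 (S : Subgroup ↥(Subgroup.centralizer ({z} : Set G) ⊓ Subgroup.centralizer (K :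 Set G))) ∨ ∃ n : ℕ, Nonempty (↥(S : Subgroup ↥(Subgroup.centralizer ({z} : Set G) ⊓ Subgroup.centralizer (K : Set G))) ≃* DihedralGroup n))) ∧ (Cfsg.PRankLE 2 1 ↥K ∨ (K.subgroupOf (Subgroup.centralizer ({z} : Set G))).Normal))

/-- Some involution `z` has a component `K` of `C(z)` such that `K` or `C(z) ∩ C(K)` has 2-rank at most 1. -/
def RankOne (G : Type*) [Group G] : Prop :=
  ∃ (z : G) (K : Subgroup G), orderOf z = 2 ∧ IsComponentOf K (centralizer ({z} : Set G)) ∧
    (PRankLE 2 1 ↥K ∨ PRankLE 2 1 ↥(centralizer ({z} : Set G) ⊓ centralizer (K : Set G)))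

/-! ### Standard subgroups -/

/-- From a standard subgroup `K` and an involution `z ∈ C(K)` with a good centralizer. -/
theorem concl_of_std {G : Type*} [Group G] [Finite G] {z : G} {K : Subgroup G} (hz : orderOf z = 2)
    (hzK : z ∈ centralizer (K : Set G)) (hK : IsStandardSubgroup K)
    (hg : GoodCent ↥(centralizer ({z} : Set G) ⊓ centralizer (K : Set G))) : Concl G := by
  obtain ⟨h1, h2⟩ := Cfsg.Agent.S1754.result K hK z hz hzK
  refine Or.inr ⟨z, hz, K, ?_, h2, hK, hg, Or.inr ?_⟩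
  · intro k hk
    rw [mem_centralizer_singleton_iff]
    exact mem_centralizer_iff.1 hzK k hk
  · exact Subgroup.normal_subgroupOf_of_le_normalizer h1

section rank

variable {G : Type*} [Group G]

/-- two commuting involutions in a group of 2-rank 1 are equal -/
theorem eq_of_comm {H : Subgroup G} (h : PRankLE 2 1 ↥H) {y z : G} (hy : y ∈ H) (hz : z ∈ H) (hy2 : orderOf y = 2)
    (hz2 : orderOf z = 2) (hc : y * z = z * y) : y = z := by
  by_contra hne
  have hyy : y * y = 1 := by
    have := pow_orderOf_eq_one y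
    rwa [hy2, pow_two] at this
  have hzz : z * z = 1 := by
    have := pow_orderOf_eq_one z
    rwa [hz2, pow_two] at this
  have hy1 : y ≠ 1 := by
    rintro rfl
    rw [orderOf_one] at hy2
    omega
  have hz1 : z ≠ 1 := by
    rintro rfl
    rw [orderOf_one] at hz2
    omega
  let a : ↥H := ⟨y, hy⟩
  let b : ↥H := ⟨z, hz⟩
  have hab : a * b = b * a := Subtype.ext hc
  have haa : a * a = 1 := Subtype.ext hyy
  have hbb : b * b = 1 := Subtype.ext hzz
  let A : Subgroup ↥H :=
    { carrier := {x | x = 1 ∨ x = a ∨ x = b ∨ x = a * b}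
      one_mem' := Or.inl rfl
      mul_mem' := by
        have e1 : a * (a * b) = b := by rw [← mul_assoc, haa, one_mul]
        have e2 : b * (a * b) = a := by rw [hab, ← mul_assoc, hbb, one_mul]
        have e3 : a * b * a = b := by rw [hab, mul_assoc, haa, mul_one]
        have e4 : a * b * b = a := by rw [mul_assoc, hbb, mul_one]
        have e5 : a * b * (a * b) = 1 := by rw [mul_assoc, e2, haa]
        rintro x y (rfl | rfl | rfl | rfl) (rfl | rfl | rfl | rfl) <;>
          simp [haa, hbb, e1, e2, e3, e4, e5, hab.symm]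
      inv_mem' := by
        have e1 : a⁻¹ = a := inv_eq_of_mul_eq_one_left haa
        have e2 : b⁻¹ = b := inv_eq_of_mul_eq_one_left hbb
        rintro x (rfl | rfl | rfl | rfl)
        · simp
        · simp [e1]
        · simp [e2]
        · simp [e1, e2, hab.symm] }
  have hA : ∀ x ∈ A, ∀ y ∈ A, x * y = y * x := by
    have e1 : a * (a * b) = (a * b) * a := by rw [mul_assoc, ← hab]
    have e2 : b * (a * b) = (a * b) * b := by rw [← mul_assoc, ← hab]
    rintro x (rfl | rfl | rfl | rfl) y (rfl | rfl | rfl | rfl) <;> simp [hab] <;>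
      simp [← hab, e1, e2]
  have h1 := h A ⟨⟨fun x y => Subtype.ext (hA x x.2 y y.2)⟩⟩ (by
    rintro x (rfl | rfl | rfl | rfl)
    · simp
    · rw [pow_two, haa]
    · rw [pow_two, hbb]
    · rw [pow_two, mul_assoc, ← mul_assoc b, ← hab, mul_assoc a b b, hbb, mul_one, haa])
  have hfin : Finite ↥A := by
    apply Set.Finite.subset (Set.toFinite ({1, a, b, a * b} : Set ↥H))
    intro x hx
    rcases hx with rfl | rfl | rfl | rfl <;> simp
  have h2 : Nat.card (Fin 3) ≤ Nat.card ↥A := by
    refine Nat.card_le_card_of_injective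
      (![⟨1, Or.inl rfl⟩, ⟨a, Or.inr (Or.inl rfl)⟩, ⟨b, Or.inr (Or.inr (Or.inl rfl))⟩] : Fin 3 → ↥A) ?_
    have ha1 : a ≠ 1 := fun h => hy1 (congrArg Subtype.val h)
    have hb1 : b ≠ 1 := fun h => hz1 (congrArg Subtype.val h)
    have hab' : a ≠ b := fun h => hne (congrArg Subtype.val h)
    have k1 : (⟨1, Or.inl rfl⟩ : ↥A) ≠ ⟨a, Or.inr (Or.inl rfl)⟩ := fun h => ha1 (congrArg Subtype.val h).symm
    have k2 : (⟨1, Or.inl rfl⟩ : ↥A) ≠ ⟨b, Or.inr (Or.inr (Or.inl rfl))⟩ := fun h => hb1 (congrArg Subtype.val h).symm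
    have k3 : (⟨a, Or.inr (Or.inl rfl)⟩ : ↥A) ≠ ⟨b, Or.inr (Or.inr (Or.inl rfl))⟩ := fun h => hab' (congrArg Subtype.val h)
    intro i j hij
    match i, j, hij with
    | 0, 0, _ => rfl
    | 1, 1, _ => rfl
    | 2, 2, _ => rfl
    | 0, 1, h => exact absurd h k1
    | 0, 2, h => exact absurd h k2
    | 1, 0, h => exact absurd h.symm k1
    | 1, 2, h => exact absurd h k3
    | 2, 0, h => exact absurd h.symm k2
    | 2, 1, h => exact absurd h.symm k3
  rw [Nat.card_fin] at h2
  omega

/-- the involutions of `C` are conjugate to `z`, if `C ∩ C(z)` has 2-rank at most 1 -/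
theorem exists_conj [Finite G] {C : Subgroup G} {y z : G} (hz : z ∈ C) (hz2 : orderOf z = 2)
    (h : PRankLE 2 1 ↥(centralizer ({z} : Set G) ⊓ C)) (hy : y ∈ C) (hy2 : orderOf y = 2) :
    ∃ c ∈ C, y = c * z * c⁻¹ := by
  have : Fact (Nat.Prime 2) := ⟨Nat.prime_two⟩
  -- an element of `C` of order 2 commuting with `z` is `z`
  have key : ∀ u ∈ C, orderOf u = 2 → u * z = z * u → u = z := by
    intro u hu hu2 huz
    exact eq_of_comm h ⟨mem_centralizer_singleton_iff.2 huz, hu⟩ ⟨mem_centralizer_singleton_iff.2 rfl, hz⟩ hu2 hz2 huz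
  let z' : ↥C := ⟨z, hz⟩
  let y' : ↥C := ⟨y, hy⟩
  have hz2' : orderOf z' = 2 := by rw [← hz2]; exact (Subgroup.orderOf_coe z').symm
  have hy2' : orderOf y' = 2 := by rw [← hy2]; exact (Subgroup.orderOf_coe y').symm
  have hp : ∀ u : ↥C, orderOf u = 2 → IsPGroup 2 ↥(zpowers u) := by
    intro u hu
    rw [IsPGroup.iff_card]
    exact ⟨1, by rw [Nat.card_zpowers, hu, pow_one]⟩
  obtain ⟨S, hS⟩ := (hp z' hz2').exists_le_sylow
  obtain ⟨T, hT⟩ := (hp y' hy2').exists_le_sylow
  have hzS : z' ∈ (S : Subgroup ↥C) := hS (mem_zpowers z')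
  have hyT : y' ∈ (T : Subgroup ↥C) := hT (mem_zpowers y')
  -- `z` is central in `S`
  have hcen : ∀ s ∈ (S : Subgroup ↥C), s * z' = z' * s := by
    have hnt : Nontrivial ↥(S : Subgroup ↥C) := by
      refine ⟨⟨⟨z', hzS⟩, 1, ?_⟩⟩
      intro h1
      have h2 : z' = 1 := congrArg Subtype.val h1
      rw [h2, orderOf_one] at hz2'
      omega
    have h1 : Nontrivial ↥(center ↥(S : Subgroup ↥C)) := S.2.center_nontrivial
    have h2 : IsPGroup 2 ↥(center ↥(S : Subgroup ↥C)) := S.2.to_subgroup _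
    obtain ⟨n, hn, hcard⟩ := h2.nontrivial_iff_card.1 h1
    obtain ⟨u, hu⟩ := exists_prime_orderOf_dvd_card' (G := ↥(center ↥(S : Subgroup ↥C))) 2
      (by rw [hcard]; exact dvd_pow_self 2 hn.ne')
    have hu1 : orderOf ((u : ↥(S : Subgroup ↥C)) : ↥C) = 2 := by
      rw [Subgroup.orderOf_coe, Subgroup.orderOf_coe, hu]
    have hcomm : ∀ s ∈ (S : Subgroup ↥C), s * ((u : ↥(S : Subgroup ↥C)) : ↥C) = ((u : ↥(S : Subgroup ↥C)) : ↥C) * s := by
      intro s hs
      exact congrArg Subtype.val (mem_center_iff.1 u.2 ⟨s, hs⟩)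
    have hu3 : (((u : ↥(S : Subgroup ↥C)) : ↥C) : G) = z := by
      apply key _ (Subtype.coe_prop _)
      · rw [Subgroup.orderOf_coe, hu1]
      · exact (congrArg Subtype.val (hcomm z' hzS)).symm
    have hu4 : ((u : ↥(S : Subgroup ↥C)) : ↥C) = z' := Subtype.ext hu3
    rwa [hu4] at hcomm
  obtain ⟨c, hc⟩ := MulAction.exists_smul_eq ↥C T S
  have h3 : c * y' * c⁻¹ ∈ (S : Subgroup ↥C) := by
    rw [← hc, Sylow.coe_subgroup_smul]
    exact ⟨y', hyT, rfl⟩
  have h4 := hcen _ h3
  have h5 : ((c * y' * c⁻¹ : ↥C) : G) = z := by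
    apply key _ (Subtype.coe_prop _)
    · rw [Subgroup.orderOf_coe, ← hy2']
      exact MulEquiv.orderOf_eq (MulAut.conj c) y'
    · exact congrArg Subtype.val h4
  refine ⟨((c⁻¹ : ↥C) : G), (c⁻¹).2, ?_⟩
  rw [← h5]
  simp only [Subgroup.coe_mul, Subgroup.coe_inv]
  group
  rfl

/-- if `C ∩ C(z)` has 2-rank at most 1, for an involution `z ∈ C`, then `C` has 2-rank at most 1 -/
theorem prankLE_of_cent [Finite G] {C : Subgroup G} {z : G} (hz : z ∈ C) (hz2 : orderOf z = 2)
    (h : PRankLE 2 1 ↥(centralizer ({z} : Set G) ⊓ C)) : PRankLE 2 1 ↥C := by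
  intro A hA hA2
  by_contra hcard
  have hcard' : 2 < Nat.card ↥A := by
    rw [pow_one] at hcard
    omega
  have hsub : ¬ (∀ x y : ↥A, x ≠ 1 → y ≠ 1 → x = y) := by
    intro hall
    have hle : Nat.card ↥A ≤ Nat.card (Fin 2) := by
      classical
      refine Nat.card_le_card_of_injective (fun x : ↥A => if x = 1 then (0 : Fin 2) else 1) ?_
      intro x y hxy
      by_cases hx : x = 1 <;> by_cases hy : y = 1
      · rw [hx, hy]
      · simp [hx, hy] at hxy
      · simp [hx, hy] at hxy
      · exact hall x y hx hy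
    rw [Nat.card_fin] at hle
    omega
  push Not at hsub
  obtain ⟨x, y, hx, hy, hxy⟩ := hsub
  apply hxy
  have ho : ∀ x : ↥A, x ≠ 1 → orderOf (((x : ↥C) : G)) = 2 := by
    intro x hx
    rw [Subgroup.orderOf_coe, Subgroup.orderOf_coe]
    exact orderOf_eq_prime (Subtype.ext (hA2 x x.2)) hx
  obtain ⟨c, hc, hxc⟩ := exists_conj hz hz2 h (x : ↥C).2 (ho x hx)
  have hcomm : (((x : ↥C) : G)) * (((y : ↥C) : G)) = (((y : ↥C) : G)) * (((x : ↥C) : G)) := by
    have h1 := hA.is_comm.comm x y
    exact congrArg (fun u : ↥A => (((u : ↥C) : G))) h1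
  have hyc : c⁻¹ * (((y : ↥C) : G)) * c = z := by
    have h1 : (c⁻¹ * (((y : ↥C) : G)) * c) * z = z * (c⁻¹ * (((y : ↥C) : G)) * c) := by
      rw [hxc] at hcomm
      have h2 := congrArg (fun u => c⁻¹ * u * c) hcomm
      have e1 : c⁻¹ * (c * z * c⁻¹ * (((y : ↥C) : G))) * c = z * (c⁻¹ * (((y : ↥C) : G)) * c) := by group
      have e2 : c⁻¹ * ((((y : ↥C) : G)) * (c * z * c⁻¹)) * c = (c⁻¹ * (((y : ↥C) : G)) * c) * z := by group
      exact (e2.symm.trans h2.symm).trans e1
    refine eq_of_comm h ⟨mem_centralizer_singleton_iff.2 h1, C.mul_mem (C.mul_mem (C.inv_mem hc) (y : ↥C).2) hc⟩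
      ⟨mem_centralizer_singleton_iff.2 rfl, hz⟩ ?_ hz2 h1
    rw [← ho y hy]
    have := MulEquiv.orderOf_eq (MulAut.conj c⁻¹) (((y : ↥C) : G))
    rwa [MulAut.conj_apply, inv_inv] at this
  have hyx : (((y : ↥C) : G)) = (((x : ↥C) : G)) := by
    rw [hxc, ← hyc]
    group
  exact (Subtype.ext (Subtype.ext hyx)).symm

end rank

/-! ### `RankOne` -/

/-- conjugate of a component -/
theorem isComponentOf_conj {G : Type*} [Group G] {K : Subgroup G} {z : G}
    (h : IsComponentOf K (centralizer ({z} : Set G))) (g : G) :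
    IsComponentOf (K.map (MulAut.conj g).toMonoidHom) (centralizer ({g * z * g⁻¹} : Set G)) := by
  have h1 := isComponentOf_map (MulAut.conj g) h
  rw [map_centralizer_singleton] at h1
  exact h1

/-- **`K` is standard** if `C(z) ∩ C(K)` has 2-rank at most 1 and `K` does not. -/
theorem isStandard_of_rankOne {G : Type*} [Group G] [Finite G] {z : G} {K : Subgroup G} (hz : orderOf z = 2)
    (hK : IsComponentOf K (centralizer ({z} : Set G))) (hK1 : ¬ PRankLE 2 1 ↥K)
    (h : PRankLE 2 1 ↥(centralizer ({z} : Set G) ⊓ centralizer (K : Set G))) : IsStandardSubgroup K := by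
  have hzK : z ∈ centralizer (K : Set G) := by
    rw [mem_centralizer_iff]
    intro k hk
    exact mem_centralizer_singleton_iff.1 (hK.1 hk)
  refine Cfsg.Agent.S1306.result z hz K hK.1 hK.2 ?_ ?_
  · intro y hy hyK
    obtain ⟨c, hc, hcy⟩ := exists_conj hzK hz h hyK hy
    have h1 := isComponentOf_conj hK c
    rw [← hcy] at h1
    have h2 : K.map (MulAut.conj c).toMonoidHom = K := by
      ext x
      constructor
      · rintro ⟨k, hk, rfl⟩
        change c * k * c⁻¹ ∈ K
        have : k * c = c * k := mem_centralizer_iff.1 hc k hk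
        rw [← this, mul_inv_cancel_right]
        exact hk
      · intro hx
        refine ⟨x, hx, ?_⟩
        change c * x * c⁻¹ = x
        have : x * c = c * x := mem_centralizer_iff.1 hc x hx
        rw [← this, mul_inv_cancel_right]
    rw [h2] at h1
    exact h1
  · intro g _ hcomm
    apply hK1
    rw [commutator_eq_bot_iff_le_centralizer] at hcomm
    have h1 : K.map (MulAut.conj g).toMonoidHom ≤ centralizer (K : Set G) := by
      rw [Subgroup.le_centralizer_iff]
      exact hcomm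
    have h2 : PRankLE 2 1 ↥(centralizer (K : Set G)) := prankLE_of_cent hzK hz h
    have h3 : PRankLE 2 1 ↥(K.map (MulAut.conj g).toMonoidHom) := by
      intro A hA hA2
      have h4 := h2 (A.map (Subgroup.inclusion h1)) ?_ ?_
      · rwa [Nat.card_congr (A.equivMapOfInjective _ (Subgroup.inclusion_injective h1)).symm.toEquiv] at h4
      · refine ⟨⟨?_⟩⟩
        rintro ⟨_, x, hx, rfl⟩ ⟨_, y, hy, rfl⟩
        apply Subtype.ext
        change Subgroup.inclusion h1 x * Subgroup.inclusion h1 y = Subgroup.inclusion h1 y * Subgroup.inclusion h1 x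
        rw [← map_mul, ← map_mul]
        congr 1
        exact congrArg Subtype.val (hA.is_comm.comm ⟨x, hx⟩ ⟨y, hy⟩)
      · rintro _ ⟨x, hx, rfl⟩
        rw [← map_pow, hA2 x hx, map_one]
    exact Cfsg.Agent.CpQuot.Congr.prankLE_of (subMap (MulAut.conj g) K).symm h3

/-- **`RankOne` gives the conclusion.** -/
theorem concl_of_rankOne {G : Type*} [Group G] [Finite G] (h : RankOne G) : Concl G := by
  obtain ⟨z, K, hz, hK, h1⟩ := h
  by_cases hK1 : PRankLE 2 1 ↥K
  · exact Or.inl ⟨z, hz, K, hK.1, hK.2, hK1⟩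
  · have h2 : PRankLE 2 1 ↥(centralizer ({z} : Set G) ⊓ centralizer (K : Set G)) := h1.resolve_left hK1
    refine concl_of_std hz ?_ (isStandard_of_rankOne hz hK hK1 h2) (Or.inl h2)
    rw [mem_centralizer_iff]
    intro k hk
    exact mem_centralizer_singleton_iff.1 (hK.1 hk)

theorem map_centralizer_equiv {G : Type u} {H : Type v} [Group G] [Group H] (e : G ≃* H) (K : Subgroup G) :
    (centralizer (K : Set G)).map e.toMonoidHom = centralizer ((K.map e.toMonoidHom : Subgroup H) : Set H) := by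
  ext y
  constructor
  · rintro ⟨x, hx, rfl⟩
    rw [mem_centralizer_iff]
    rintro _ ⟨k, hk, rfl⟩
    change e k * e x = e x * e k
    rw [← map_mul, mem_centralizer_iff.1 hx k hk, map_mul]
  · intro hy
    refine ⟨e.symm y, ?_, e.apply_symm_apply y⟩
    rw [SetLike.mem_coe, mem_centralizer_iff]
    intro k hk
    apply e.injective
    rw [map_mul, map_mul, e.apply_symm_apply]
    exact mem_centralizer_iff.1 hy (e k) ⟨k, hk, rfl⟩

theorem RankOne.of_equiv {G : Type u} {H : Type v} [Group G] [Group H] (e : G ≃* H) (h : RankOne G) : RankOne H := by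
  obtain ⟨z, K, hz, hK, h1⟩ := h
  refine ⟨e z, K.map e.toMonoidHom, by rw [MulEquiv.orderOf_eq, hz], ?_, ?_⟩
  · rw [← map_centralizer_singleton]
    exact isComponentOf_map e hK
  · rcases h1 with h1 | h1
    · exact Or.inl (Cfsg.Agent.CpQuot.Congr.prankLE_of (subMap e K) h1)
    · right
      have h2 : (centralizer ({z} : Set G) ⊓ centralizer (K : Set G)).map e.toMonoidHom =
          centralizer ({e z} : Set H) ⊓ centralizer ((K.map e.toMonoidHom : Subgroup H) : Set H) := by
        rw [Subgroup.map_inf _ _ _ e.injective, map_centralizer_singleton, map_centralizer_equiv]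
      rw [← h2]
      exact Cfsg.Agent.CpQuot.Congr.prankLE_of (subMap e _) h1

/-! ### Transfer of standard subgroups -/

theorem map_conj_equiv {G : Type u} {H : Type v} [Group G] [Group H] (e : G ≃* H) (L : Subgroup G) (g : G) :
    (L.map (MulAut.conj g).toMonoidHom).map e.toMonoidHom =
      (L.map e.toMonoidHom).map (MulAut.conj (e g)).toMonoidHom := by
  rw [Subgroup.map_map, Subgroup.map_map]
  congr 1
  ext x
  change e (g * x * g⁻¹) = e g * e x * (e g)⁻¹
  rw [map_mul, map_mul, map_inv]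

theorem map_normalizer_equiv {G : Type u} {H : Type v} [Group G] [Group H] (e : G ≃* H) (L : Subgroup G) :
    (normalizer (L : Set G)).map e.toMonoidHom = normalizer ((L.map e.toMonoidHom : Subgroup H) : Set H) := by
  have key : ∀ (M : Subgroup G) (x : G), e x ∈ M.map e.toMonoidHom ↔ x ∈ M := by
    intro M x
    constructor
    · rintro ⟨y, hy, hxy⟩
      rwa [← e.injective hxy]
    · intro hx
      exact ⟨x, hx, rfl⟩
  ext y
  obtain ⟨x, rfl⟩ := e.surjective y
  rw [key, mem_normalizer_iff, mem_normalizer_iff]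
  constructor
  · intro h w
    obtain ⟨w, rfl⟩ := e.surjective w
    rw [← map_inv, ← map_mul, ← map_mul]
    exact (key L w).trans ((h w).trans (key L _).symm)
  · intro h w
    have h1 := h (e w)
    rw [← map_inv, ← map_mul, ← map_mul] at h1
    exact (key L w).symm.trans (h1.trans (key L _))

theorem isStandard_map {G : Type u} {H : Type v} [Group G] [Group H] (e : G ≃* H) {L : Subgroup G}
    (h : IsStandardSubgroup L) : IsStandardSubgroup (L.map e.toMonoidHom) := by
  obtain ⟨h1, ⟨h2, h3⟩, h4, h5⟩ := h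
  refine ⟨SignalizersComponents.Components.isQuasisimple_of_mulEquiv (subMap e L) h1, ⟨?_, ?_⟩, ?_, ?_⟩
  · rw [← map_centralizer_equiv, ← Nat.card_congr (subMap e _).toEquiv]
    exact h2
  · intro g hg
    obtain ⟨g, rfl⟩ := e.surjective g
    rw [← map_centralizer_equiv] at hg ⊢
    rw [← map_normalizer_equiv] at hg
    have hg' : g ∉ normalizer (centralizer (L : Set G) : Set G) := fun h => hg ⟨g, h, rfl⟩
    rw [← map_conj_equiv, ← Subgroup.map_inf _ _ _ e.injective, ← Nat.card_congr (subMap e _).toEquiv]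
    exact h3 g hg'
  · intro g hg
    obtain ⟨g, rfl⟩ := e.surjective g
    rw [← map_conj_equiv] at hg ⊢
    rw [← Subgroup.map_commutator, Ne, Subgroup.map_eq_bot_iff_of_injective _ e.injective]
    exact h4 g fun h => hg (by rw [h])
  · rw [← map_centralizer_equiv, ← map_normalizer_equiv, ← map_normalizer_equiv, h5]

/-! ### Small centralizers -/

/-- a 2-group of order dividing 4 is good -/
theorem goodCent_of_card {H : Type*} [Group H] [Finite H] (h : Nat.card H ∣ 4) : GoodCent H := by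
  have : Fact (Nat.Prime 2) := ⟨Nat.prime_two⟩
  have hp : IsPGroup 2 H := by
    rw [IsPGroup.iff_card]
    exact (Nat.dvd_prime_pow Nat.prime_two).1 (show Nat.card H ∣ 2 ^ 2 from h) |>.imp fun k hk => hk.2
  by_cases h1 : PRankLE 2 1 H
  · exact Or.inl h1
  have hnil := hp.isNilpotent
  refine Or.inr ⟨inferInstance, fun S => Or.inl ?_⟩
  unfold PRankLE at h1
  push Not at h1
  obtain ⟨A, hA, hA2, hc⟩ := h1
  have h4 : Nat.card ↥A ∣ 4 := (Subgroup.card_subgroup_dvd_card A).trans h
  have h5 : Nat.card ↥A = 4 := by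
    have h6 := Nat.le_of_dvd (by norm_num) h4
    interval_cases Nat.card ↥A <;> simp_all
  have hAt : A = ⊤ := by
    apply Subgroup.eq_top_of_card_eq
    apply le_antisymm (Nat.le_of_dvd Nat.card_pos (Subgroup.card_subgroup_dvd_card A))
    rw [h5]
    exact Nat.le_of_dvd (by norm_num) h
  refine ⟨⟨⟨fun x y => Subtype.ext ?_⟩⟩, fun a _ => hA2 a (by rw [hAt]; trivial)⟩
  have hx : (x : H) ∈ A := by rw [hAt]; trivial
  have hy : (y : H) ∈ A := by rw [hAt]; trivial
  have h7 := hA.is_comm.comm (⟨x, hx⟩ : ↥A) ⟨y, hy⟩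
  exact congrArg (fun u : ↥A => (u : H)) h7

/-- `|C(z) ∩ C(K)| · |K / Z(K)|` divides `|C(z)|` for a component `K` of `C(z)` -/
theorem card_cent_mul {G : Type*} [Group G] [Finite G] {z : G} {K : Subgroup G}
    (hK : K ≤ centralizer ({z} : Set G)) :
    Nat.card ↥(centralizer ({z} : Set G) ⊓ centralizer (K : Set G)) * Nat.card (↥K ⧸ center ↥K) ∣
      Nat.card ↥(centralizer ({z} : Set G)) := by
  let H := centralizer ({z} : Set G) ⊓ centralizer (K : Set G)
  have hc : ∀ h ∈ H, ∀ k ∈ K, h * k = k * h := fun h hh k hk => (mem_centralizer_iff.1 hh.2 k hk).symm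
  let φ : ↥H × ↥K →* G :=
    { toFun := fun x => x.1 * x.2
      map_one' := by simp
      map_mul' := by
        rintro ⟨h, k⟩ ⟨h', k'⟩
        change (h : G) * h' * ((k : G) * k') = (h : G) * k * (h' * k')
        have := hc h' h'.2 k k.2
        rw [mul_assoc, ← mul_assoc (h' : G), this]
        group }
  have hr : φ.range ≤ centralizer ({z} : Set G) := by
    rintro _ ⟨⟨h, k⟩, rfl⟩
    exact mul_mem h.2.1 (hK k.2)
  have h1 : Nat.card ↥φ.range ∣ Nat.card ↥(centralizer ({z} : Set G)) := Subgroup.card_dvd_of_le hr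
  have h2 : Nat.card (↥H × ↥K) = Nat.card ↥φ.range * Nat.card ↥φ.ker := by
    rw [Subgroup.card_eq_card_quotient_mul_card_subgroup φ.ker,
      Nat.card_congr (QuotientGroup.quotientKerEquivRange φ).toEquiv]
  -- the kernel embeds in the centre of `K`
  let ψ : ↥φ.ker →* ↥(center ↥K) :=
    { toFun := fun x => ⟨x.1.2, by
        rw [mem_center_iff]
        intro k
        have h3 : (x.1.1 : G) * x.1.2 = 1 := x.2
        have h4 : (x.1.2 : G) = (x.1.1 : G)⁻¹ := (inv_eq_of_mul_eq_one_right h3).symm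
        apply Subtype.ext
        change (k : G) * x.1.2 = x.1.2 * k
        rw [h4]
        exact (hc _ (H.inv_mem x.1.1.2) k k.2).symm⟩
      map_one' := rfl
      map_mul' := fun _ _ => rfl }
  have hψ : Function.Injective ψ := by
    intro x y hxy
    have h3 : x.1.2 = y.1.2 := congrArg Subtype.val hxy
    have h4 : (x.1.1 : G) * x.1.2 = 1 := x.2
    have h5 : (y.1.1 : G) * y.1.2 = 1 := y.2
    have h6 : (x.1.1 : G) = y.1.1 := by
      rw [← h5, h3] at h4
      exact mul_right_cancel h4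
    exact Subtype.ext (Prod.ext (Subtype.ext h6) h3)
  have h3 : Nat.card ↥φ.ker ∣ Nat.card ↥(center ↥K) := by
    rw [Nat.card_congr (MonoidHom.ofInjective hψ).toEquiv]
    exact Subgroup.card_subgroup_dvd_card _
  obtain ⟨m, hm⟩ := h3
  rw [Nat.card_prod, Subgroup.card_eq_card_quotient_mul_card_subgroup (center ↥K), hm] at h2
  have h4 : Nat.card ↥H * Nat.card (↥K ⧸ center ↥K) * m = Nat.card ↥φ.range := by
    apply Nat.eq_of_mul_eq_mul_right (Nat.card_pos (α := ↥φ.ker))
    rw [← h2]
    ring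
  exact (Dvd.intro m h4).trans h1

end Cfsg.Agent.AschComp
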